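import Cfsg.Agent.Presentations.Icosahedral
import Cfsg.Agent.Classical.Misc.SixtyGroup
import Cfsg.Agent.Small.Toolkit
import Cfsg.Agent.S0493
import Cfsg.Agent.Frobenius.SLTwoFive
import Mathlib.GroupTheory.PresentedGroup
import Mathlib.GroupTheory.SpecificGroups.Quaternion
import Mathlib.Tactic

/-!
The binary icosahedral group and the icosahedral group by generators and relations.
-/

namespace Cfsg.Lib.Presentations

open Subgroup

/-- A finite group of order less than sixty is solvable. -/
theorem isSolvable_of_card_lt_sixty : ∀ (n : ℕ) (G : Type*) [Group G] [Finite G], Nat.card G = n → n < 60 →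
    Group.IsSolvable G := by
  intro n
  induction n using Nat.strong_induction_on with
  | _ n ih =>
  intro G _ _ hn hlt
  rcases subsingleton_or_nontrivial G with hG | hG
  · infer_instance
  by_cases hsimple : IsSimpleGroup G
  · haveI := hsimple
    by_cases hcyc : IsCyclic G
    · letI : CommGroup G := IsCyclic.commGroup
      infer_instance
    · have := Cfsg.Agent.S0493.result hcyc (by omega)
      omega
  obtain ⟨N, hNn, hNb, hNt⟩ : ∃ N : Subgroup G, N.Normal ∧ N ≠ ⊥ ∧ N ≠ ⊤ := by
    by_contra h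
    push Not at h
    exact hsimple ⟨fun N hN => or_iff_not_imp_left.mpr (h N hN)⟩
  haveI := hNn
  have h1 : 1 < Nat.card N := (Subgroup.one_lt_card_iff_ne_bot N).mpr hNb
  have h2 : 1 < N.index := Subgroup.one_lt_index_of_ne_top hNt
  have h3 := N.card_mul_index
  haveI := ih (Nat.card N) (by rw [← hn, ← h3]; exact lt_mul_of_one_lt_right (by omega) h2) N rfl (by
    have : Nat.card N < n := by rw [← hn, ← h3]; exact lt_mul_of_one_lt_right (by omega) h2
    omega)
  haveI := ih N.index (by rw [← hn, ← h3]; exact lt_mul_of_one_lt_left (by omega) h1) (G ⧸ N) (N.index_eq_card).symm (by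
    have : N.index < n := by rw [← hn, ← h3]; exact lt_mul_of_one_lt_left (by omega) h1
    omega)
  exact Group.isSolvable_of_ker_le_range N.subtype (QuotientGroup.mk' N) (by simp)

/-- There is no simple group of order one hundred and twenty. -/
theorem not_simple_120 {G : Type*} [Group G] [Finite G] (h : Nat.card G = 120) : ¬ IsSimpleGroup G := by
  intro hs
  haveI := Fact.mk (show Nat.Prime 5 by norm_num)
  have hnp : ¬ (Nat.card G).Prime := by rw [h]; norm_num
  have hnc := Cfsg.Lib.Small.not_comm_of_isSimple hnp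
  obtain ⟨P⟩ : Nonempty (Sylow 5 G) := inferInstance
  have hP : Nat.card (P : Subgroup G) = 5 :=
    Cfsg.Lib.Classical.SixtyGroup.sylow_card_of (m := 24) (by omega) (by norm_num) P
  have hn6 : Nat.card (Sylow 5 G) = 6 := by
    have h1 : Nat.card (Sylow 5 G) % 5 = 1 := card_sylow_modEq_one 5 _
    have h2 := Cfsg.Lib.Small.card_sylow_dvd P
    rw [hP, h] at h2
    have h3 : Nat.card (Sylow 5 G) ∣ 24 := Nat.dvd_of_mul_dvd_mul_right (by norm_num) (show _ * 5 ∣ 24 * 5 from h2)
    have h4 := Nat.le_of_dvd (by norm_num) h3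
    have h5 : Nat.card (Sylow 5 G) ≠ 1 := Cfsg.Lib.Small.card_sylow_ne_one hnc (by rw [h]; norm_num)
    generalize Nat.card (Sylow 5 G) = k at *
    interval_cases k <;> omega
  set N := Subgroup.normalizer ((P : Subgroup G) : Set G) with hN
  have hidx : N.index = 6 := (Sylow.card_eq_index_normalizer P).symm.trans hn6
  obtain ⟨f, hf⟩ := Cfsg.Lib.Small.exists_hom_alternating_index hnc N (fun e => by rw [e, Subgroup.index_top] at hidx; norm_num at hidx)
  haveI : IsSimpleGroup (alternatingGroup (Fin N.index)) := alternatingGroup.isSimpleGroup (by rw [Nat.card_fin, hidx]; norm_num)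
  have hcA : Nat.card (alternatingGroup (Fin N.index)) = 360 := by
    haveI : Nontrivial (Fin N.index) := by rw [Fin.nontrivial_iff_two_le]; omega
    rw [nat_card_alternatingGroup, Nat.card_fin, hidx]; rfl
  have hri : f.range.index = 3 := by
    have := f.range.card_mul_index
    rw [hcA, ← Nat.card_congr (MonoidHom.ofInjective hf).toEquiv, h] at this
    omega
  let θ := MulAction.toPermHom (alternatingGroup (Fin N.index)) (alternatingGroup (Fin N.index) ⧸ f.range)
  have hθ : θ.ker = ⊥ := by
    refine ((MonoidHom.normal_ker θ).eq_bot_or_eq_top).resolve_right fun e => ?_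
    have hle : θ.ker ≤ f.range := by
      rw [← Subgroup.normalCore_eq_ker]
      exact f.range.normalCore_le
    rw [e, top_le_iff] at hle
    rw [hle, Subgroup.index_top] at hri
    norm_num at hri
  have := Nat.card_le_card_of_injective θ ((MonoidHom.ker_eq_bot_iff θ).mp hθ)
  rw [hcA, Nat.card_perm, ← Subgroup.index_eq_card, hri] at this
  norm_num [Nat.factorial] at this

/-- The relations of the icosahedral group. -/
def icosaRels : Set (FreeGroup (Fin 2)) :=
  {FreeGroup.of (0 : Fin 2) ^ 3, FreeGroup.of (1 : Fin 2) ^ 5, (FreeGroup.of (0 : Fin 2) * FreeGroup.of 1) ^ 2}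

/-- The relations of the binary icosahedral group. -/
def binaryRels : Set (FreeGroup (Fin 3)) :=
  {FreeGroup.of (0 : Fin 3) ^ 3, FreeGroup.of (1 : Fin 3) ^ 5, FreeGroup.of (2 : Fin 3) ^ 2,
    (FreeGroup.of (2 : Fin 3))⁻¹ * FreeGroup.of 0 * FreeGroup.of 2 * (FreeGroup.of (0 : Fin 3))⁻¹,
    (FreeGroup.of (2 : Fin 3))⁻¹ * FreeGroup.of 1 * FreeGroup.of 2 * (FreeGroup.of (1 : Fin 3))⁻¹,
    (FreeGroup.of (0 : Fin 3) * FreeGroup.of 1) ^ 2 * (FreeGroup.of (2 : Fin 3))⁻¹}

theorem icosa_card : Finite (PresentedGroup icosaRels) ∧ Nat.card (PresentedGroup icosaRels) ≤ 60 := by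
  set a : PresentedGroup icosaRels := PresentedGroup.of 0 with ha
  set b : PresentedGroup icosaRels := PresentedGroup.of 1 with hb
  have rel : ∀ r ∈ icosaRels, PresentedGroup.mk icosaRels r = 1 := fun r hr =>
    PresentedGroup.one_of_mem hr
  have ha3 : a ^ 3 = 1 := by exact rel (FreeGroup.of 0 ^ 3) (by simp [icosaRels])
  have hb5 : b ^ 5 = 1 := by exact rel (FreeGroup.of 1 ^ 5) (by simp [icosaRels])
  have hab : (a * b) ^ 2 = 1 := by
    exact rel ((FreeGroup.of 0 * FreeGroup.of 1) ^ 2) (by simp [icosaRels])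
  have hgen : Subgroup.closure {a, b} = ⊤ := by
    rw [eq_top_iff, ← PresentedGroup.closure_range_of icosaRels]
    refine Subgroup.closure_mono ?_
    rintro _ ⟨i, rfl⟩
    fin_cases i <;> simp [ha, hb]
  haveI : Finite (zpowers b) := finite_zpowers.mpr (isOfFinOrder_iff_pow_eq_one.mpr ⟨5, by norm_num, hb5⟩)
  have hcb : Nat.card (zpowers b) ≤ 5 := by
    rw [Nat.card_zpowers]; exact orderOf_le_of_pow_eq_one (by norm_num) hb5
  obtain ⟨h1, h2⟩ := finite_and_card_le a b hgen (zpowers b) hcb (mem_zpowers b)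
    (fun x => by rw [← mul_smul, ← mul_smul, show a * a * a = a ^ 3 by simp only [pow_succ, pow_zero, one_mul, mul_assoc], ha3, one_smul])
    (fun x => by rw [← mul_smul, ← mul_smul, ← mul_smul, ← mul_smul, show b * b * b * b * b = b ^ 5 by simp only [pow_succ, pow_zero, one_mul, mul_assoc], hb5, one_smul])
    (fun x => by rw [← mul_smul, ← mul_smul, ← mul_smul, show a * b * a * b = (a * b) ^ 2 by simp only [pow_succ, pow_zero, one_mul, mul_assoc], hab, one_smul])
  exact ⟨h1, h2⟩

theorem binary_card : Finite (PresentedGroup binaryRels) ∧ Nat.card (PresentedGroup binaryRels) ≤ 120 := by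
  set a : PresentedGroup binaryRels := PresentedGroup.of 0 with ha
  set b : PresentedGroup binaryRels := PresentedGroup.of 1 with hb
  set c : PresentedGroup binaryRels := PresentedGroup.of 2 with hc
  have rel : ∀ r ∈ binaryRels, PresentedGroup.mk binaryRels r = 1 := fun r hr =>
    PresentedGroup.one_of_mem hr
  have ha3 : a ^ 3 = 1 := by exact rel (FreeGroup.of 0 ^ 3) (by simp [binaryRels])
  have hb5 : b ^ 5 = 1 := by exact rel (FreeGroup.of 1 ^ 5) (by simp [binaryRels])
  have hc2 : c ^ 2 = 1 := by exact rel (FreeGroup.of 2 ^ 2) (by simp [binaryRels])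
  have hca : c⁻¹ * a * c * a⁻¹ = 1 := by
    exact rel ((FreeGroup.of 2)⁻¹ * FreeGroup.of 0 * FreeGroup.of 2 * (FreeGroup.of 0)⁻¹) (by simp [binaryRels])
  have hcb : c⁻¹ * b * c * b⁻¹ = 1 := by
    exact rel ((FreeGroup.of 2)⁻¹ * FreeGroup.of 1 * FreeGroup.of 2 * (FreeGroup.of 1)⁻¹) (by simp [binaryRels])
  have hab : (a * b) ^ 2 * c⁻¹ = 1 := by
    exact rel ((FreeGroup.of 0 * FreeGroup.of 1) ^ 2 * (FreeGroup.of 2)⁻¹) (by simp [binaryRels])
  have hcab : c = (a * b) ^ 2 := (mul_inv_eq_one.mp hab).symm
  have hgen : Subgroup.closure {a, b} = ⊤ := by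
    rw [eq_top_iff, ← PresentedGroup.closure_range_of binaryRels, Subgroup.closure_le]
    rintro _ ⟨i, rfl⟩
    have h0 : a ∈ Subgroup.closure ({a, b} : Set (PresentedGroup binaryRels)) := subset_closure (Set.mem_insert _ _)
    have h1 : b ∈ Subgroup.closure ({a, b} : Set (PresentedGroup binaryRels)) := subset_closure (Set.mem_insert_of_mem _ rfl)
    fin_cases i
    · exact h0
    · exact h1
    · show c ∈ _
      rw [hcab]
      exact pow_mem (mul_mem h0 h1) 2
  have hcent : ∀ g, Commute c g := by
    intro g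
    have hg : g ∈ Subgroup.closure {a, b} := hgen ▸ mem_top g
    induction hg using Subgroup.closure_induction with
    | mem y hy =>
      rcases hy with rfl | rfl
      · exact (inv_mul_eq_iff_eq_mul.mp (show c⁻¹ * (a * c) = a by rw [← mul_assoc]; exact mul_inv_eq_one.mp hca)).symm
      · exact (inv_mul_eq_iff_eq_mul.mp (show c⁻¹ * (b * c) = b by rw [← mul_assoc]; exact mul_inv_eq_one.mp hcb)).symm
    | one => exact Commute.one_right _
    | mul x y _ _ hx hy => exact hx.mul_right hy
    | inv x _ hx => exact hx.inv_right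
  let f : zpowers b × zpowers c →* PresentedGroup binaryRels :=
    MonoidHom.noncommCoprod (zpowers b).subtype (zpowers c).subtype fun x y => by
      obtain ⟨i, hi⟩ := mem_zpowers_iff.mp y.2
      show Commute (x : PresentedGroup binaryRels) y
      rw [← hi]
      exact ((hcent x).zpow_left i).symm
  haveI : Finite (zpowers b) := finite_zpowers.mpr (isOfFinOrder_iff_pow_eq_one.mpr ⟨5, by norm_num, hb5⟩)
  haveI : Finite (zpowers c) := finite_zpowers.mpr (isOfFinOrder_iff_pow_eq_one.mpr ⟨2, by norm_num, hc2⟩)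
  haveI : Finite f.range := Finite.of_surjective f.rangeRestrict f.rangeRestrict_surjective
  have hcard : Nat.card f.range ≤ 10 := by
    refine (Nat.card_le_card_of_surjective f.rangeRestrict f.rangeRestrict_surjective).trans ?_
    rw [Nat.card_prod, Nat.card_zpowers, Nat.card_zpowers]
    exact Nat.mul_le_mul (orderOf_le_of_pow_eq_one (by norm_num) hb5) (orderOf_le_of_pow_eq_one (n := 2) (by norm_num) hc2)
  have hbm : b ∈ f.range := ⟨(⟨b, mem_zpowers b⟩, 1), mul_one b⟩
  have hcm : c ∈ f.range := ⟨(1, ⟨c, mem_zpowers c⟩), one_mul c⟩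
  have hctriv : ∀ x : PresentedGroup binaryRels ⧸ f.range, c • x = x := by
    intro x
    induction x using QuotientGroup.induction_on with
    | _ g =>
      show ((c * g : PresentedGroup binaryRels) : PresentedGroup binaryRels ⧸ f.range) = g
      rw [(hcent g).eq, QuotientGroup.eq]
      simpa [mul_assoc] using inv_mem hcm
  obtain ⟨h1, h2⟩ := finite_and_card_le a b hgen f.range hcard hbm
    (fun x => by rw [← mul_smul, ← mul_smul, show a * a * a = a ^ 3 by simp only [pow_succ, pow_zero, one_mul, mul_assoc], ha3, one_smul])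
    (fun x => by rw [← mul_smul, ← mul_smul, ← mul_smul, ← mul_smul, show b * b * b * b * b = b ^ 5 by simp only [pow_succ, pow_zero, one_mul, mul_assoc], hb5, one_smul])
    (fun x => by rw [← mul_smul, ← mul_smul, ← mul_smul, show a * b * a * b = (a * b) ^ 2 by simp only [pow_succ, pow_zero, one_mul, mul_assoc], ← hcab, hctriv])
  exact ⟨h1, h2⟩

theorem quaternion_unique : ∀ x y : QuaternionGroup 2, x ^ 2 = 1 → y ^ 2 = 1 → x ≠ 1 → y ≠ 1 → x = y := by
  decide +kernel

/-- A nonsolvable group of order 120 with quaternion Sylow 2-subgroups is the binary icosahedral group. -/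
theorem iso_binary {G : Type*} [Group G] [Finite G] (hG : Nat.card G = 120) (hns : ¬ Group.IsSolvable G)
    (hQ : ∀ P : Sylow 2 G, Nonempty ((P : Subgroup G) ≃* QuaternionGroup 2)) :
    Nonempty (PresentedGroup binaryRels ≃* G) := by
  haveI : Nontrivial G := Finite.one_lt_card_iff_nontrivial.mp (by omega)
  haveI := Fact.mk Nat.prime_two
  -- commuting involutions coincide
  have huniq : ∀ u v : G, u ^ 2 = 1 → v ^ 2 = 1 → u ≠ 1 → v ≠ 1 → u * v = v * u → u = v := by
    intro u v hu hv hu1 hv1 huv
    have hp : ∀ w : G, w ^ 2 = 1 → IsPGroup 2 (zpowers w) := fun w hw x => ⟨1, by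
      obtain ⟨i, hi⟩ := mem_zpowers_iff.mp x.2
      apply Subtype.ext
      rw [SubgroupClass.coe_pow, ← hi, pow_one, ← zpow_natCast, ← zpow_mul, mul_comm, zpow_mul, zpow_natCast, hw, one_zpow, Subgroup.coe_one]⟩
    have hle : zpowers u ≤ normalizer ((zpowers v : Subgroup G) : Set G) := by
      refine (Subgroup.zpowers_le.mpr ?_).trans (centralizer_le_normalizer _)
      refine mem_centralizer_iff.mpr fun z hz => ?_
      obtain ⟨i, hi⟩ := mem_zpowers_iff.mp hz
      rw [← hi]
      exact ((show Commute u v from huv).zpow_right i).symm.eq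
    obtain ⟨P, hP⟩ := (IsPGroup.to_sup_of_normal_right' (hp u hu) (hp v hv) hle).exists_le_sylow
    obtain ⟨e⟩ := hQ P
    have huP : u ∈ (P : Subgroup G) := hP (mem_sup_left (mem_zpowers u))
    have hvP : v ∈ (P : Subgroup G) := hP (mem_sup_right (mem_zpowers v))
    have h := quaternion_unique (e ⟨u, huP⟩) (e ⟨v, hvP⟩)
      (by rw [← map_pow]; simp [hu]) (by rw [← map_pow]; simp [hv])
      (by rw [Ne, EmbeddingLike.map_eq_one_iff]; exact fun h => hu1 (congrArg Subtype.val h))
      (by rw [Ne, EmbeddingLike.map_eq_one_iff]; exact fun h => hv1 (congrArg Subtype.val h))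
    exact congrArg Subtype.val (e.injective h)
  -- a normal subgroup of order two
  obtain ⟨N, hNn, hN2⟩ : ∃ N : Subgroup G, N.Normal ∧ Nat.card N = 2 := by
    obtain ⟨N, hNn, hNb, hNt⟩ : ∃ N : Subgroup G, N.Normal ∧ N ≠ ⊥ ∧ N ≠ ⊤ := by
      by_contra h
      push Not at h
      exact not_simple_120 hG ⟨fun N hN => or_iff_not_imp_left.mpr (h N hN)⟩
    haveI := hNn
    have h1 : 1 < Nat.card N := (Subgroup.one_lt_card_iff_ne_bot N).mpr hNb
    have h2 : 1 < N.index := Subgroup.one_lt_index_of_ne_top hNt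
    have h3 := N.card_mul_index
    rw [hG] at h3
    by_cases hsN : Group.IsSolvable N
    · have hsq : ¬ Group.IsSolvable (G ⧸ N) := fun h => by
        haveI := h; haveI := hsN
        exact hns (Group.isSolvable_of_ker_le_range N.subtype (QuotientGroup.mk' N) (by simp))
      refine ⟨N, hNn, ?_⟩
      have h60 : 60 ≤ N.index := by
        by_contra hlt
        exact hsq (isSolvable_of_card_lt_sixty _ _ N.index_eq_card.symm (by omega))
      have := Nat.mul_le_mul_left (Nat.card N) h60
      omega
    · exfalso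
      have h60 : 60 ≤ Nat.card N := by
        by_contra hlt
        exact hsN (isSolvable_of_card_lt_sixty _ _ rfl (by omega))
      have hN60 : Nat.card N = 60 := by
        have := Nat.mul_le_mul_left (Nat.card N) h2
        omega
      have hNs : IsSimpleGroup N := by
        haveI : Nontrivial N := Finite.one_lt_card_iff_nontrivial.mp h1
        refine ⟨fun M hM => or_iff_not_imp_left.mpr fun hMb => ?_⟩
        by_contra hMt
        haveI := hM
        have m1 : 1 < Nat.card M := (Subgroup.one_lt_card_iff_ne_bot M).mpr hMb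
        have m2 : 1 < M.index := Subgroup.one_lt_index_of_ne_top hMt
        have m3 := M.card_mul_index
        rw [hN60] at m3
        haveI := isSolvable_of_card_lt_sixty _ M rfl (by
          have := Nat.mul_le_mul_left (Nat.card M) m2; omega)
        haveI := isSolvable_of_card_lt_sixty _ (N ⧸ M) M.index_eq_card.symm (by
          have := Nat.mul_le_mul_right M.index m1; omega)
        exact hsN (Group.isSolvable_of_ker_le_range M.subtype (QuotientGroup.mk' M) (by simp))
      obtain ⟨e⟩ := Cfsg.Lib.Classical.SixtyGroup.iso_alt_five hNs hN60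
      have key : ∃ s t : alternatingGroup (Fin 5), s ^ 2 = 1 ∧ t ^ 2 = 1 ∧ s ≠ 1 ∧ t ≠ 1 ∧ s * t = t * s ∧ s ≠ t :=
        ⟨⟨Equiv.swap 0 1 * Equiv.swap 2 3, Equiv.Perm.mem_alternatingGroup.mpr (by decide +kernel)⟩, ⟨Equiv.swap 0 2 * Equiv.swap 1 3, Equiv.Perm.mem_alternatingGroup.mpr (by decide +kernel)⟩, by decide +kernel⟩
      obtain ⟨s, t, hs, ht, hs1, ht1, hst, hne⟩ := key
      let φ : alternatingGroup (Fin 5) →* G := N.subtype.comp e.symm.toMonoidHom
      have hφ : Function.Injective φ := N.subtype_injective.comp e.symm.injective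
      exact hne (hφ (huniq (φ s) (φ t) (by rw [← map_pow, hs, map_one]) (by rw [← map_pow, ht, map_one])
        (fun h => hs1 (hφ (h.trans (map_one φ).symm))) (fun h => ht1 (hφ (h.trans (map_one φ).symm)))
        (by rw [← map_mul, ← map_mul, hst])))
  haveI := hNn
  obtain ⟨z, hz1, hNz⟩ : ∃ z : G, z ≠ 1 ∧ ∀ x ∈ N, x = 1 ∨ x = z := by
    obtain ⟨z, hz, hz1⟩ := N.bot_or_exists_ne_one.resolve_left fun h => by rw [h, Subgroup.card_bot] at hN2; norm_num at hN2
    refine ⟨z, hz1, fun x hx => ?_⟩
    obtain ⟨a₀, b₀, -, hall⟩ := Nat.card_eq_two_iff.mp hN2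
    have h1 : ((1 : N) = a₀ ∨ (1 : N) = b₀) := by
      have := (Set.eq_univ_iff_forall.mp hall) 1; simpa using this
    have h2 : ((⟨z, hz⟩ : N) = a₀ ∨ (⟨z, hz⟩ : N) = b₀) := by
      have := (Set.eq_univ_iff_forall.mp hall) ⟨z, hz⟩; simpa using this
    have h3 : ((⟨x, hx⟩ : N) = a₀ ∨ (⟨x, hx⟩ : N) = b₀) := by
      have := (Set.eq_univ_iff_forall.mp hall) ⟨x, hx⟩; simpa using this
    rcases h1 with h1 | h1 <;> rcases h2 with h2 | h2 <;> rcases h3 with h3 | h3 <;>
      first
        | exact absurd (congrArg Subtype.val (h2.trans h1.symm)) hz1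
        | exact Or.inl (congrArg Subtype.val (h3.trans h1.symm))
        | exact Or.inr (congrArg Subtype.val (h3.trans h2.symm))
  have hzN : z ∈ N := by
    obtain ⟨x, hx, hx1⟩ := N.bot_or_exists_ne_one.resolve_left fun h => by rw [h, Subgroup.card_bot] at hN2; norm_num at hN2
    exact ((hNz x hx).resolve_left hx1) ▸ hx
  have hz2 : z ^ 2 = 1 := by
    rcases hNz _ (pow_mem hzN 2) with h | h
    · exact h
    · exact absurd (mul_left_cancel (show z * z = z * 1 by rw [mul_one, ← pow_two, h])) hz1
  have hzc : ∀ g : G, g * z = z * g := fun g => by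
    rcases hNz _ (hNn.conj_mem z hzN g) with h | h
    · exact absurd (conj_eq_one_iff.mp h) hz1
    · exact mul_inv_eq_iff_eq_mul.mp h
  have hq : Nat.card (G ⧸ N) = 60 := by
    have := N.card_mul_index
    rw [hN2, hG, N.index_eq_card] at this
    omega
  haveI : Nontrivial (G ⧸ N) := Finite.one_lt_card_iff_nontrivial.mp (by omega)
  have hqs : IsSimpleGroup (G ⧸ N) := by
    refine ⟨fun M hM => or_iff_not_imp_left.mpr fun hMb => ?_⟩
    by_contra hMt
    haveI := hM
    have m1 : 1 < Nat.card M := (Subgroup.one_lt_card_iff_ne_bot M).mpr hMb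
    have m2 : 1 < M.index := Subgroup.one_lt_index_of_ne_top hMt
    have m3 := M.card_mul_index
    rw [hq] at m3
    haveI := isSolvable_of_card_lt_sixty _ M rfl (by have := Nat.mul_le_mul_left (Nat.card M) m2; omega)
    haveI := isSolvable_of_card_lt_sixty _ ((G ⧸ N) ⧸ M) M.index_eq_card.symm (by
      have := Nat.mul_le_mul_right M.index m1; omega)
    haveI : Group.IsSolvable (G ⧸ N) := Group.isSolvable_of_ker_le_range M.subtype (QuotientGroup.mk' M) (by simp)
    haveI : Group.IsSolvable N := isSolvable_of_card_lt_sixty _ _ hN2 (by norm_num)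
    exact hns (Group.isSolvable_of_ker_le_range N.subtype (QuotientGroup.mk' N) (by simp))
  obtain ⟨e⟩ := Cfsg.Lib.Classical.SixtyGroup.iso_alt_five hqs hq
  -- lifts of the generators
  let sa : alternatingGroup (Fin 5) := ⟨Equiv.swap 0 1 * Equiv.swap 1 2, Equiv.Perm.mem_alternatingGroup.mpr (by decide +kernel)⟩
  let sb : alternatingGroup (Fin 5) := ⟨finRotate 5 ^ 2, Equiv.Perm.mem_alternatingGroup.mpr (by decide +kernel)⟩
  have hsa : sa ^ 3 = 1 := by decide +kernel
  have hsb : sb ^ 5 = 1 := by decide +kernel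
  have hsab : (sa * sb) ^ 2 = 1 := by decide +kernel
  let π : G →* alternatingGroup (Fin 5) := e.toMonoidHom.comp (QuotientGroup.mk' N)
  have hπ : Function.Surjective π := e.surjective.comp (QuotientGroup.mk'_surjective N)
  have hπN : ∀ x, π x = 1 → x ∈ N := fun x hx => (QuotientGroup.eq_one_iff x).mp (e.injective (hx.trans (map_one e).symm))
  have hπz : π z = 1 := by
    show e (QuotientGroup.mk' N z) = 1
    rw [show QuotientGroup.mk' N z = 1 from (QuotientGroup.eq_one_iff z).mpr hzN, map_one]
  have lift : ∀ (s : alternatingGroup (Fin 5)) (k : ℕ), Odd k → s ^ k = 1 → ∃ x : G, π x = s ∧ x ^ k = 1 := by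
    intro s k hk hs
    obtain ⟨x, rfl⟩ := hπ s
    have hmem : x ^ k ∈ N := hπN _ (by rw [map_pow, hs])
    refine ⟨x * (x ^ k), ?_, ?_⟩
    · rw [map_mul, map_pow, hs, mul_one]
    · rw [(Commute.self_pow x k).mul_pow]
      rcases hNz _ hmem with h | h
      · rw [h, one_pow, one_mul]
      · rw [h, show z ^ k = z by
          obtain ⟨j, rfl⟩ := hk
          rw [pow_succ, pow_mul, hz2, one_pow, one_mul], ← pow_two, hz2]
  obtain ⟨a, ha, ha3⟩ := lift sa 3 (by decide) hsa
  obtain ⟨b, hb, hb5⟩ := lift sb 5 (by decide) hsb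
  have hab : (a * b) ^ 2 = z := by
    refine (hNz _ (hπN _ (by rw [map_pow, map_mul, ha, hb, hsab]))).resolve_left fun h => ?_
    have hne : sa * sb ≠ 1 := by decide +kernel
    have h1 : a * b ≠ 1 := fun e' => hne (by rw [← ha, ← hb, ← map_mul, e', map_one])
    exact hne (by rw [← ha, ← hb, ← map_mul, huniq (a * b) z h hz2 h1 hz1 (hzc _), hπz])
  let f : Fin 3 → G := ![a, b, z]
  have hrels : ∀ r ∈ binaryRels, FreeGroup.lift f r = 1 := by
    intro r hr
    simp only [binaryRels, Set.mem_insert_iff, Set.mem_singleton_iff] at hr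
    rcases hr with rfl | rfl | rfl | rfl | rfl | rfl <;> simp [f, ha3, hb5, hz2, hab, mul_assoc]
    · rw [← mul_assoc a z a⁻¹, hzc a, mul_assoc, mul_inv_cancel, mul_one, inv_mul_cancel]
    · rw [← mul_assoc b z b⁻¹, hzc b, mul_assoc, mul_inv_cancel, mul_one, inv_mul_cancel]
  let φ := PresentedGroup.toGroup hrels
  have hmem : ∀ i, f i ∈ φ.range := fun i => ⟨PresentedGroup.of i, PresentedGroup.toGroup.of hrels⟩
  have hsur : Function.Surjective φ := by
    rw [← MonoidHom.range_eq_top]
    have hzr : z ∈ φ.range := hmem 2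
    have hmap : φ.range.map π = ⊤ := by
      haveI := Fact.mk (show Nat.Prime 3 by norm_num)
      haveI := Fact.mk (show Nat.Prime 5 by norm_num)
      haveI : IsSimpleGroup (alternatingGroup (Fin 5)) := alternatingGroup.isSimpleGroup (by simp)
      have hc60 : Nat.card (alternatingGroup (Fin 5)) = 60 := by rw [nat_card_alternatingGroup, Nat.card_fin]; rfl
      have d3 : 3 ∣ Nat.card (φ.range.map π) := by
        have : sa ∈ φ.range.map π := ⟨a, hmem 0, ha⟩
        have h := Subgroup.orderOf_dvd_natCard (φ.range.map π) this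
        rwa [orderOf_eq_prime hsa (by decide +kernel)] at h
      have d5 : 5 ∣ Nat.card (φ.range.map π) := by
        have : sb ∈ φ.range.map π := ⟨b, hmem 1, hb⟩
        have h := Subgroup.orderOf_dvd_natCard (φ.range.map π) this
        rwa [orderOf_eq_prime hsb (by decide +kernel)] at h
      have d2 : 2 ∣ Nat.card (φ.range.map π) := by
        have : sa * sb ∈ φ.range.map π := mul_mem ⟨a, hmem 0, ha⟩ ⟨b, hmem 1, hb⟩
        have h := Subgroup.orderOf_dvd_natCard (φ.range.map π) this
        rwa [orderOf_eq_prime hsab (by decide +kernel)] at h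
      have d30 : 30 ∣ Nat.card (φ.range.map π) := by
        have := Nat.Coprime.mul_dvd_of_dvd_of_dvd (show Nat.Coprime 15 2 by norm_num)
          (Nat.Coprime.mul_dvd_of_dvd_of_dvd (show Nat.Coprime 3 5 by norm_num) d3 d5) d2
        exact this
      obtain ⟨k, hk⟩ := d30
      have hm := (φ.range.map π).card_mul_index
      rw [hc60, hk] at hm
      by_contra hne
      have hidx : (φ.range.map π).index = 2 := by
        have h1 := Subgroup.one_lt_index_of_ne_top hne
        have h2 : k * (φ.range.map π).index = 2 := by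
          have : 30 * (k * (φ.range.map π).index) = 30 * 2 := by rw [← mul_assoc, hm]
          omega
        have h3 := Nat.le_of_dvd (by norm_num) (Dvd.intro_left k h2)
        omega
      rcases (Subgroup.normal_of_index_eq_two hidx).eq_bot_or_eq_top with h | h
      · rw [h, Subgroup.index_bot, hc60] at hidx; norm_num at hidx
      · exact hne h
    rw [eq_top_iff]
    intro g _
    obtain ⟨y, hy, hyg⟩ := (hmap.ge (mem_top (π g)) : π g ∈ φ.range.map π)
    have : y⁻¹ * g ∈ N := hπN _ (by rw [map_mul, map_inv, hyg, inv_mul_cancel])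
    rcases hNz _ this with h | h
    · rw [← inv_mul_eq_one.mp h]; exact hy
    · rw [show g = y * z by rw [← h, mul_inv_cancel_left]]; exact mul_mem hy hzr
  obtain ⟨hfin, hle⟩ := binary_card
  haveI := hfin
  refine ⟨MulEquiv.ofBijective φ (hsur.bijective_of_nat_card_le (by rw [hG]; exact hle))⟩

end Cfsg.Lib.Presentations
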