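import Mathlib.GroupTheory.PresentedGroup
import Mathlib.GroupTheory.SpecificGroups.Alternating
import Mathlib.GroupTheory.Perm.Cycle.Type
import Mathlib.GroupTheory.Coset.Card
import Mathlib.GroupTheory.GroupAction.Quotient
import Mathlib.Algebra.Pointwise.Stabilizer
import Mathlib.Tactic

/-!
The presentation of the alternating groups by a three-cycle and products of two transpositions.
-/

namespace Cfsg.Lib.Presentations.Carmichael

open scoped Pointwise

variable {G : Type*} [Group G]

/-- The relations among the first `m` generators. -/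
structure Rel (g : ℕ → G) (m : ℕ) : Prop where
  cube : 0 < m → g 0 ^ 3 = 1
  sq : ∀ i, 1 ≤ i → i < m → g i * g i = 1
  braid : ∀ i, i + 1 < m → (g i * g (i + 1)) ^ 3 = 1
  far : ∀ i j, i + 1 < j → j < m → g i * g j * (g i * g j) = 1

theorem Rel.mono {g : ℕ → G} {m k : ℕ} (h : Rel g m) (hk : k ≤ m) : Rel g k :=
  ⟨fun h0 => h.cube (by omega), fun i h1 h2 => h.sq i h1 (by omega), fun i h1 => h.braid i (by omega),
    fun i j h1 h2 => h.far i j h1 (by omega)⟩

/-- A small set invariant under all generators. -/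
theorem exists_invariant {X : Type*} [MulAction G X] {g : ℕ → G} {k : ℕ} (h : Rel g (k + 1)) (x0 : X)
    (hfix : ∀ i < k, g i • x0 = x0) :
    ∃ S : Finset X, S.card ≤ k + 3 ∧ x0 ∈ S ∧ ∀ i ≤ k, ∀ x ∈ S, g i • x ∈ S := by
  classical
  -- the points
  obtain ⟨v, hvtop, hv⟩ : ∃ v : ℕ → X, v (k + 1) = x0 ∧ ∀ j ≤ k, v j = g j • v (j + 1) := by
    let u : ℕ → X := fun d => Nat.rec x0 (fun n r => g (k - n) • r) d
    refine ⟨fun j => u (k + 1 - j), by simp [u], fun j hj => ?_⟩
    show u (k + 1 - j) = g j • u (k + 1 - (j + 1))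
    rw [show k + 1 - j = (k - j) + 1 by omega, show k + 1 - (j + 1) = k - j by omega]
    show g (k - (k - j)) • u (k - j) = _
    rw [show k - (k - j) = j by omega]
  have hinv : ∀ i, 1 ≤ i → i ≤ k → (g i)⁻¹ = g i := fun i h1 h2 =>
    inv_eq_of_mul_eq_one_right (h.sq i h1 (by omega))
  -- far generators fix the points
  have hfar : ∀ d, ∀ j, j + d = k + 1 → ∀ i, i + 1 < j → g i • v j = v j ∧ (g i)⁻¹ • v j = v j := by
    intro d
    induction d with
    | zero =>
      intro j hj i hi
      obtain rfl : j = k + 1 := by omega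
      rw [hvtop]
      exact ⟨hfix i (by omega), by rw [inv_smul_eq_iff, hfix i (by omega)]⟩
    | succ d ih =>
      intro j hj i hi
      obtain ⟨h1, h2⟩ := ih (j + 1) (by omega) i (by omega)
      have hgj := hinv j (by omega) (by omega)
      have hcomm : g i * g j = g j * (g i)⁻¹ := by
        have := h.far i j hi (by omega)
        rw [← eq_inv_iff_mul_eq_one] at this
        rw [this, mul_inv_rev, hgj]
      have hcomm' : (g i)⁻¹ * g j = g j * g i := by
        rw [inv_mul_eq_iff_eq_mul, ← mul_assoc, hcomm, inv_mul_cancel_right]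
      constructor
      · rw [hv j (by omega), ← mul_smul, hcomm, mul_smul, h2]
      · rw [hv j (by omega), ← mul_smul, hcomm', mul_smul, h1]
  have hfar' : ∀ i j, i + 1 < j → j ≤ k + 1 → g i • v j = v j ∧ (g i)⁻¹ • v j = v j := fun i j hi hj =>
    hfar (k + 1 - j) j (by omega) i hi
  -- later generators
  have hlater : ∀ d, ∀ j i, j + 1 + d = i → i ≤ k → g i • v j = (g j)⁻¹ • v (j + 1) := by
    intro d
    induction d with
    | zero =>
      intro j i hi hik
      subst hi
      rw [hv j (by omega), hv (j + 1) hik, ← mul_smul, ← mul_smul]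
      have hb := h.braid j (by omega)
      have hs := hinv (j + 1) (by omega) hik
      have e : g (j + 1) * g j * g (j + 1) = (g j)⁻¹ * g (j + 1) * (g j)⁻¹ := by
        have h3 : (g j * g (j + 1)) * (g j * g (j + 1)) = (g j * g (j + 1))⁻¹ := by
          apply eq_inv_of_mul_eq_one_left
          rw [← hb, pow_succ, pow_two]
        rw [mul_inv_rev, hs] at h3
        calc g (j + 1) * g j * g (j + 1) = (g j)⁻¹ * ((g j * g (j + 1)) * (g j * g (j + 1))) := by group
          _ = (g j)⁻¹ * g (j + 1) * (g j)⁻¹ := by rw [h3, mul_assoc]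
      rw [e, mul_smul, (hfar' j (j + 2) (by omega) (by omega)).2, mul_smul]
    | succ d ih =>
      intro j i hi hik
      have h1 := ih (j + 1) i (by omega) hik
      rw [hinv (j + 1) (by omega) (by omega), ← hv (j + 1) (by omega)] at h1
      have hcomm : g i * g j = (g j)⁻¹ * g i := by
        have := h.far j i (by omega) (by omega)
        rw [← eq_inv_iff_mul_eq_one, mul_inv_rev, hinv i (by omega) hik] at this
        rw [eq_inv_mul_iff_mul_eq, ← mul_assoc, this, mul_assoc, inv_mul_cancel, mul_one]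
        -- now both sides are the same involution
      rw [hv j (by omega), ← mul_smul, hcomm, mul_smul, h1]
  set t : X := (g 0)⁻¹ • v 1 with ht
  let S : Finset X := insert t ((Finset.range (k + 2)).image v)
  refine ⟨S, (Finset.card_insert_le _ _).trans (by
    have := (Finset.card_image_le (s := Finset.range (k + 2)) (f := v))
    rw [Finset.card_range] at this
    omega), ?_, ?_⟩
  · exact Finset.mem_insert_of_mem (Finset.mem_image.mpr ⟨k + 1, Finset.mem_range.mpr (by omega), hvtop⟩)
  intro i hi x hx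
  have hmem : ∀ j ≤ k + 1, v j ∈ S := fun j hj =>
    Finset.mem_insert_of_mem (Finset.mem_image.mpr ⟨j, Finset.mem_range.mpr (by omega), rfl⟩)
  have htmem : t ∈ S := Finset.mem_insert_self _ _
  rcases Finset.mem_insert.mp hx with rfl | hx
  · rcases Nat.eq_zero_or_pos i with rfl | hi0
    · rw [ht, smul_inv_smul]; exact hmem 1 (by omega)
    · have h1 := hlater (i - 1) 0 i (by omega) hi
      rw [zero_add, ← ht] at h1
      rw [← h1, ← mul_smul, h.sq i hi0 (by omega), one_smul]
      exact hmem 0 (by omega)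
  obtain ⟨j, hj, rfl⟩ := Finset.mem_image.mp hx
  rw [Finset.mem_range] at hj
  rcases lt_trichotomy (i + 1) j with hlt | heq | hgt
  · rw [(hfar' i j hlt (by omega)).1]; exact hmem j (by omega)
  · rw [← heq, ← hv i hi]; exact hmem i (by omega)
  rcases eq_or_lt_of_le (show j ≤ i by omega) with rfl | hji
  · rcases Nat.eq_zero_or_pos j with rfl | hj0
    · have h3 : g 0 * g 0 = (g 0)⁻¹ := by
        apply eq_inv_of_mul_eq_one_left
        rw [← h.cube (by omega), pow_succ, pow_two]
      rw [hv 0 (by omega), ← mul_smul, h3]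
      exact htmem
    · rw [hv j hi, ← mul_smul, h.sq j hj0 (by omega), one_smul]; exact hmem (j + 1) (by omega)
  · have h1 := hlater (i - j - 1) j i (by omega) hi
    rcases Nat.eq_zero_or_pos j with rfl | hj0
    · rw [h1]; exact htmem
    · rw [h1, hinv j hj0 (by omega), ← hv j (by omega)]; exact hmem j (by omega)

/-- The generators generate at most half the symmetric group. -/
theorem finite_and_card_le (g : ℕ → G) : ∀ m : ℕ, Rel g m →
    Finite (Subgroup.closure (g '' Set.Iio m)) ∧
      2 * Nat.card (Subgroup.closure (g '' Set.Iio m)) ≤ (m + 2).factorial := by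
  intro m
  induction m with
  | zero =>
    intro _
    rw [show g '' Set.Iio 0 = ∅ by simp, Subgroup.closure_empty]
    exact ⟨inferInstance, by simp [Nat.factorial]⟩
  | succ k ih =>
    intro h
    obtain ⟨hfin, hcard⟩ := ih (h.mono (by omega))
    haveI := hfin
    set H := Subgroup.closure (g '' Set.Iio k) with hH
    set K := Subgroup.closure (g '' Set.Iio (k + 1)) with hK
    obtain ⟨S, hS, h0, hinv⟩ := exists_invariant h ((1 : G) : G ⧸ H) fun i hi => by
      show ((g i * 1 : G) : G ⧸ H) = ((1 : G) : G ⧸ H)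
      rw [mul_one, QuotientGroup.eq, mul_one]
      exact inv_mem (Subgroup.subset_closure ⟨i, hi, rfl⟩)
    have hKS : K ≤ MulAction.stabilizer G (S : Set (G ⧸ H)) := by
      rw [hK, Subgroup.closure_le]
      rintro _ ⟨i, hi, rfl⟩
      rw [SetLike.mem_coe, MulAction.mem_stabilizer_iff]
      refine Set.eq_of_subset_of_ncard_le ?_ (by rw [Set.ncard_smul_set]) S.finite_toSet
      rintro _ ⟨x, hx, rfl⟩
      exact hinv i (Nat.lt_succ_iff.mp hi) x hx
    have hmem : ∀ a : K, ((a : G) : G ⧸ H) ∈ S := fun a => by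
      have ha : (a : G) • (S : Set (G ⧸ H)) = S := MulAction.mem_stabilizer_iff.mp (hKS a.2)
      have : (a : G) • ((1 : G) : G ⧸ H) ∈ (S : Set (G ⧸ H)) := ha ▸ Set.smul_mem_smul_set h0
      simpa using this
    let φ : K → S × H := fun a => (⟨_, hmem a⟩, ⟨(Quotient.out ((a : G) : G ⧸ H))⁻¹ * a,
      QuotientGroup.eq.mp (QuotientGroup.out_eq' _)⟩)
    have hφ : Function.Injective φ := fun a b e => by
      have e1 : ((a : G) : G ⧸ H) = (b : G) := congrArg (fun z : S × H => (z.1 : G ⧸ H)) e
      have e2 := congrArg (fun z : S × H => (z.2 : G)) e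
      simp only [φ, e1] at e2
      exact Subtype.ext (mul_left_cancel e2)
    refine ⟨Finite.of_injective φ hφ, ?_⟩
    have hle := Nat.card_le_card_of_injective φ hφ
    rw [Nat.card_prod, Nat.card_eq_fintype_card (α := S), Fintype.card_coe] at hle
    calc 2 * Nat.card K ≤ 2 * (S.card * Nat.card H) := Nat.mul_le_mul_left 2 hle
      _ = S.card * (2 * Nat.card H) := by ring
      _ ≤ (k + 3) * (k + 2).factorial := Nat.mul_le_mul hS hcard
      _ = (k + 1 + 2).factorial := (Nat.factorial_succ (k + 2)).symm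

open Equiv

theorem cube_of_chain {α : Type*} [DecidableEq α] [Fintype α] {a b c : α} (ab : a ≠ b) (bc : b ≠ c) (ac : a ≠ c) :
    (swap a b * swap b c) ^ 3 = (1 : Perm α) := by
  have h := (Equiv.Perm.isThreeCycle_swap_mul_swap_same ab.symm bc ac).orderOf
  rw [swap_comm b a] at h
  rw [← h, pow_orderOf_eq_one]

theorem swap_commute {α : Type*} [DecidableEq α] {a b c d : α} (h1 : a ≠ c) (h2 : a ≠ d) (h3 : b ≠ c) (h4 : b ≠ d) :
    swap a b * swap c d = swap c d * swap a b := by
  refine (Equiv.Perm.Disjoint.commute fun x => ?_).eq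
  by_cases hx : x = a ∨ x = b
  · right
    rcases hx with rfl | rfl
    · exact swap_apply_of_ne_of_ne h1 h2
    · exact swap_apply_of_ne_of_ne h3 h4
  · left
    push Not at hx
    exact swap_apply_of_ne_of_ne hx.1 hx.2

/-- The presentation of the alternating group on at least three letters. -/
theorem presentation (n : ℕ) (hn : 3 ≤ n) :
    Nonempty (PresentedGroup
      ({g : FreeGroup (Fin (n - 2)) | ∃ i : Fin (n - 2), i.val = 0 ∧ g = FreeGroup.of i ^ 3} ∪
       {g | ∃ i : Fin (n - 2), 1 ≤ i.val ∧ g = FreeGroup.of i ^ 2} ∪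
       {g | ∃ i j : Fin (n - 2), j.val = i.val + 1 ∧ g = (FreeGroup.of i * FreeGroup.of j) ^ 3} ∪
       {g | ∃ i j : Fin (n - 2), i.val + 1 < j.val ∧ g = (FreeGroup.of i * FreeGroup.of j) ^ 2})
      ≃* alternatingGroup (Fin n)) := by
  set R := ({g : FreeGroup (Fin (n - 2)) | ∃ i : Fin (n - 2), i.val = 0 ∧ g = FreeGroup.of i ^ 3} ∪
       {g | ∃ i : Fin (n - 2), 1 ≤ i.val ∧ g = FreeGroup.of i ^ 2} ∪
       {g | ∃ i j : Fin (n - 2), j.val = i.val + 1 ∧ g = (FreeGroup.of i * FreeGroup.of j) ^ 3} ∪
       {g | ∃ i j : Fin (n - 2), i.val + 1 < j.val ∧ g = (FreeGroup.of i * FreeGroup.of j) ^ 2}) with hR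
  -- the bound
  let g : ℕ → PresentedGroup R := fun i => if h : i < n - 2 then PresentedGroup.of ⟨i, h⟩ else 1
  have hg : ∀ (i : ℕ) (h : i < n - 2), g i = PresentedGroup.of ⟨i, h⟩ := fun i h => dif_pos h
  have hrel : Rel g (n - 2) := by
    refine ⟨fun h0 => ?_, fun i h1 h2 => ?_, fun i h1 => ?_, fun i j h1 h2 => ?_⟩
    · rw [hg 0 h0]
      exact PresentedGroup.one_of_mem (show FreeGroup.of (⟨0, h0⟩ : Fin (n - 2)) ^ 3 ∈ R from Or.inl (Or.inl (Or.inl ⟨_, rfl, rfl⟩)))
    · rw [hg i h2, ← pow_two]
      exact PresentedGroup.one_of_mem (show FreeGroup.of (⟨i, h2⟩ : Fin (n - 2)) ^ 2 ∈ R from Or.inl (Or.inl (Or.inr ⟨_, h1, rfl⟩)))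
    · rw [hg i (by omega), hg (i + 1) h1]
      exact PresentedGroup.one_of_mem (show (FreeGroup.of (⟨i, by omega⟩ : Fin (n - 2)) * FreeGroup.of ⟨i + 1, h1⟩) ^ 3 ∈ R from Or.inl (Or.inr ⟨_, _, rfl, rfl⟩))
    · rw [hg i (by omega), hg j h2, ← pow_two]
      exact PresentedGroup.one_of_mem (show (FreeGroup.of (⟨i, by omega⟩ : Fin (n - 2)) * FreeGroup.of ⟨j, h2⟩) ^ 2 ∈ R from Or.inr ⟨_, _, h1, rfl⟩)
  have htop : Subgroup.closure (g '' Set.Iio (n - 2)) = ⊤ := by
    rw [eq_top_iff, ← PresentedGroup.closure_range_of R]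
    refine Subgroup.closure_mono ?_
    rintro _ ⟨i, rfl⟩
    exact ⟨i.val, i.isLt, hg i.val i.isLt⟩
  obtain ⟨hfin, hcard⟩ := finite_and_card_le g (n - 2) hrel
  rw [htop] at hfin hcard
  haveI : Finite (PresentedGroup R) := Finite.of_equiv _ Subgroup.topEquiv.toEquiv
  rw [Subgroup.card_top, show n - 2 + 2 = n by omega] at hcard
  -- the permutations
  obtain ⟨m, rfl⟩ : ∃ m, n = m + 3 := ⟨n - 3, by omega⟩
  let pt : ℕ → Fin (m + 3) := Fin.ofNat (m + 3)
  have hpt : ∀ a b, a < m + 3 → b < m + 3 → a ≠ b → pt a ≠ pt b := fun a b ha hb hne e => hne (by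
    have := congrArg Fin.val e
    simpa [pt, Nat.mod_eq_of_lt ha, Nat.mod_eq_of_lt hb] using this)
  let s : ℕ → Perm (Fin (m + 3)) := fun a => swap (pt a) (pt (a + 1))
  have hs : ∀ a, s a * s a = 1 := fun a => swap_mul_self _ _
  have hsign : ∀ a, a + 1 < m + 3 → Perm.sign (s a) = -1 := fun a ha => Perm.sign_swap (hpt a (a + 1) (by omega) ha (by omega))
  let x : Fin (m + 3 - 2) → alternatingGroup (Fin (m + 3)) := fun i =>
    ⟨s 0 * s (i.val + 1), by
      rw [Perm.mem_alternatingGroup, map_mul, hsign 0 (by omega), hsign _ (by have := i.isLt; omega)]; rfl⟩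
  have hcomm : ∀ a, 2 ≤ a → a + 1 < m + 3 → s 0 * s a = s a * s 0 := fun a ha hlt =>
    swap_commute (hpt 0 a (by omega) (by omega) (by omega)) (hpt 0 (a + 1) (by omega) (by omega) (by omega))
      (hpt 1 a (by omega) (by omega) (by omega)) (hpt 1 (a + 1) (by omega) (by omega) (by omega))
  have hrels : ∀ r ∈ R, FreeGroup.lift x r = 1 := by
    intro r hr
    rcases hr with ((⟨i, hi, rfl⟩ | ⟨i, hi, rfl⟩) | ⟨i, j, hj, rfl⟩) | ⟨i, j, hj, rfl⟩ <;>
      simp only [map_pow, map_mul, FreeGroup.lift_apply_of] <;> apply Subtype.ext <;>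
      simp only [SubmonoidClass.coe_pow, Subgroup.coe_mul, OneMemClass.coe_one, x]
    · rw [hi]
      exact cube_of_chain (hpt 0 1 (by omega) (by omega) (by omega)) (hpt 1 2 (by omega) (by omega) (by omega))
        (hpt 0 2 (by omega) (by omega) (by omega))
    · have hlt := i.isLt
      rw [(show Commute (s 0) (s (i.val + 1)) from hcomm _ (by omega) (by omega)).mul_pow, pow_two, pow_two, hs, hs, one_mul]
    · have hlt := j.isLt
      rw [hj]
      rcases Nat.eq_zero_or_pos i.val with h0 | h0
      · rw [h0]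
        have e : s 0 * s 1 * (s 0 * s 2) = swap (pt 0) (pt 2) * swap (pt 2) (pt 3) := by
          rw [← mul_assoc]
          congr 1
          show swap (pt 0) (pt 1) * swap (pt 1) (pt 2) * swap (pt 0) (pt 1) = swap (pt 0) (pt 2)
          rw [swap_comm (pt 0) (pt 1), swap_comm (pt 1) (pt 2), swap_mul_swap_mul_swap (hpt 1 2 (by omega) (by omega) (by omega)).symm
            (hpt 0 2 (by omega) (by omega) (by omega)).symm, swap_comm]
        rw [e]
        exact cube_of_chain (hpt 0 2 (by omega) (by omega) (by omega)) (hpt 2 3 (by omega) (by omega) (by omega))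
          (hpt 0 3 (by omega) (by omega) (by omega))
      · rw [hcomm (i.val + 1) (by omega) (by omega), mul_assoc, ← mul_assoc (s 0) (s 0), hs, one_mul]
        exact cube_of_chain (hpt _ _ (by omega) (by omega) (by omega)) (hpt _ _ (by omega) (by omega) (by omega))
          (hpt _ _ (by omega) (by omega) (by omega))
    · have hlt := j.isLt
      rcases Nat.eq_zero_or_pos i.val with h0 | h0
      · rw [h0]
        have e : s 0 * s 1 * (s 0 * s (j.val + 1)) = swap (pt 0) (pt 2) * s (j.val + 1) := by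
          rw [← mul_assoc]
          congr 1
          show swap (pt 0) (pt 1) * swap (pt 1) (pt 2) * swap (pt 0) (pt 1) = swap (pt 0) (pt 2)
          rw [swap_comm (pt 0) (pt 1), swap_comm (pt 1) (pt 2), swap_mul_swap_mul_swap (hpt 1 2 (by omega) (by omega) (by omega)).symm
            (hpt 0 2 (by omega) (by omega) (by omega)).symm, swap_comm]
        rw [e, (show Commute (swap (pt 0) (pt 2)) (s (j.val + 1)) from swap_commute
          (hpt _ _ (by omega) (by omega) (by omega)) (hpt _ _ (by omega) (by omega) (by omega))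
          (hpt _ _ (by omega) (by omega) (by omega)) (hpt _ _ (by omega) (by omega) (by omega))).mul_pow,
          pow_two, pow_two, swap_mul_self, hs, one_mul]
      · rw [hcomm (i.val + 1) (by omega) (by omega), mul_assoc, ← mul_assoc (s 0) (s 0), hs, one_mul,
          (show Commute (s (i.val + 1)) (s (j.val + 1)) from swap_commute
          (hpt _ _ (by omega) (by omega) (by omega)) (hpt _ _ (by omega) (by omega) (by omega))
          (hpt _ _ (by omega) (by omega) (by omega)) (hpt _ _ (by omega) (by omega) (by omega))).mul_pow,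
          pow_two, pow_two, hs, hs, one_mul]
  let φ := PresentedGroup.toGroup hrels
  have hsur : Function.Surjective φ := by
    let T : Subgroup (Perm (Fin (m + 3))) := φ.range.map (alternatingGroup (Fin (m + 3))).subtype
    have hgen : ∀ a, 1 ≤ a → a + 1 < m + 3 → s 0 * s a ∈ T := fun a ha hlt =>
      ⟨x ⟨a - 1, by omega⟩, ⟨PresentedGroup.of ⟨a - 1, by omega⟩, PresentedGroup.toGroup.of hrels⟩, by
        show s 0 * s (a - 1 + 1) = _
        rw [Nat.sub_add_cancel ha]⟩
    have hall : ∀ σ : Perm (Fin (m + 3)), σ ∈ T ∨ σ * s 0 ∈ T := by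
      intro σ
      induction σ using Submonoid.induction_of_closure_eq_top_right (Equiv.Perm.mclosure_swap_castSucc_succ (m + 2)) with
      | one => exact Or.inl (one_mem T)
      | mul_right y z hz hy =>
        obtain ⟨i, rfl⟩ := hz
        have hsi : swap i.castSucc i.succ = s i.val := by
          show _ = swap (pt i.val) (pt (i.val + 1))
          have h1 := i.isLt
          congr 1 <;> apply Fin.ext <;>
            simp [pt, Nat.mod_eq_of_lt (show i.val + 1 < m + 3 by omega), Nat.mod_eq_of_lt (show i.val < m + 3 by omega)]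
        show y * swap i.castSucc i.succ ∈ T ∨ y * swap i.castSucc i.succ * s 0 ∈ T
        rw [hsi]
        rcases Nat.eq_zero_or_pos i.val with h0 | h0
        · rw [h0, mul_assoc, hs, mul_one]
          exact hy.symm
        have hlt := i.isLt
        have hmem := hgen i.val h0 (by omega)
        rcases hy with hy | hy
        · refine Or.inr ?_
          have h1 := mul_mem hy (inv_mem hmem)
          rw [mul_inv_rev, swap_inv, swap_inv, ← mul_assoc] at h1
          exact h1
        · refine Or.inl ?_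
          have h1 := mul_mem hy hmem
          rwa [mul_assoc, ← mul_assoc (s 0), hs, one_mul] at h1
    intro σ
    rcases hall σ with hσ | hσ
    · obtain ⟨τ, ⟨y, hy⟩, hτ⟩ := hσ
      exact ⟨y, hy.trans (Subtype.ext hτ)⟩
    · exfalso
      have h1 : Perm.sign ((σ : Perm (Fin (m + 3))) * s 0) = 1 := by
        obtain ⟨τ, -, hτ⟩ := hσ
        rw [← hτ]
        exact Perm.mem_alternatingGroup.mp τ.2
      rw [map_mul, Perm.mem_alternatingGroup.mp σ.2, hsign 0 (by omega), one_mul] at h1
      exact absurd h1 (by decide)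
  refine ⟨MulEquiv.ofBijective φ (hsur.bijective_of_nat_card_le ?_)⟩
  haveI : Nontrivial (Fin (m + 3)) := Fin.nontrivial_iff_two_le.mpr (by omega)
  rw [nat_card_alternatingGroup, Nat.card_fin, Nat.le_div_iff_mul_le (by norm_num)]
  omega

end Cfsg.Lib.Presentations.Carmichael
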