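import Mathlib.GroupTheory.Coset.Card
import Mathlib.GroupTheory.GroupAction.Quotient
import Mathlib.Algebra.Pointwise.Stabilizer
import Mathlib.Tactic

/-!
An orbit bound for groups satisfying the relations of the icosahedral group.
-/

namespace Cfsg.Lib.Presentations

open scoped Pointwise

/-- Closed set of at most twelve points for the relations of the icosahedral group. -/
theorem exists_closed {P X : Type*} [Group P] [MulAction P X] (a b : P) (x0 : X) (hfix : b • x0 = x0)
    (ha : ∀ x : X, a • a • a • x = x) (hb : ∀ x : X, b • b • b • b • b • x = x)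
    (hab : ∀ x : X, a • b • a • b • x = x) :
    ∃ S : Finset X, S.card ≤ 12 ∧ x0 ∈ S ∧ (∀ x ∈ S, a • x ∈ S) ∧ ∀ x ∈ S, b • x ∈ S := by
  classical
  have eb0 : b • x0 = x0 := hfix
  obtain ⟨x1, ea0⟩ : ∃ z, a • x0 = z := ⟨_, rfl⟩
  obtain ⟨x2, ea1⟩ : ∃ z, a • x1 = z := ⟨_, rfl⟩
  have ea2 : a • x2 = x0 := by
    have h := ha x0
    rw [ea0, ea1] at h
    exact h
  have eb1 : b • x1 = x2 := by
    have h := hab x0
    rw [eb0, ea0] at h
    have hq : a • x2 = x0 := by rw [ea2]
    simpa only [smul_left_cancel_iff] using h.trans hq.symm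
  obtain ⟨x3, eb2⟩ : ∃ z, b • x2 = z := ⟨_, rfl⟩
  obtain ⟨x4, ea3⟩ : ∃ z, a • x3 = z := ⟨_, rfl⟩
  have eb4 : b • x4 = x1 := by
    have h := hab x2
    rw [eb2, ea3] at h
    have hq : a • x1 = x2 := by rw [ea1]
    simpa only [smul_left_cancel_iff] using h.trans hq.symm
  obtain ⟨x5, eb3⟩ : ∃ z, b • x3 = z := ⟨_, rfl⟩
  have eb5 : b • x5 = x4 := by
    have h := hb x1
    rw [eb1, eb2, eb3] at h
    have hq : b • x4 = x1 := by rw [eb4]
    simpa only [smul_left_cancel_iff] using h.trans hq.symm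
  obtain ⟨x6, ea4⟩ : ∃ z, a • x4 = z := ⟨_, rfl⟩
  have ea6 : a • x6 = x3 := by
    have h := ha x3
    rw [ea3, ea4] at h
    exact h
  obtain ⟨x7, ea5⟩ : ∃ z, a • x5 = z := ⟨_, rfl⟩
  have eb7 : b • x7 = x6 := by
    have h := hab x3
    rw [eb3, ea5] at h
    have hq : a • x6 = x3 := by rw [ea6]
    simpa only [smul_left_cancel_iff] using h.trans hq.symm
  obtain ⟨x8, eb6⟩ : ∃ z, b • x6 = z := ⟨_, rfl⟩
  have ea8 : a • x8 = x5 := by
    have h := hab x5
    rw [eb5, ea4, eb6] at h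
    exact h
  have ea7 : a • x7 = x8 := by
    have h := ha x5
    rw [ea5] at h
    have hq : a • x8 = x5 := by rw [ea8]
    simpa only [smul_left_cancel_iff] using h.trans hq.symm
  obtain ⟨x9, eb8⟩ : ∃ z, b • x8 = z := ⟨_, rfl⟩
  obtain ⟨x10, ea9⟩ : ∃ z, a • x9 = z := ⟨_, rfl⟩
  have eb10 : b • x10 = x7 := by
    have h := hab x8
    rw [eb8, ea9] at h
    have hq : a • x7 = x8 := by rw [ea7]
    simpa only [smul_left_cancel_iff] using h.trans hq.symm
  have eb9 : b • x9 = x10 := by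
    have h := hb x6
    rw [eb6, eb8] at h
    have hq : b • b • x10 = x6 := by rw [eb10, eb7]
    simpa only [smul_left_cancel_iff] using h.trans hq.symm
  obtain ⟨x11, ea10⟩ : ∃ z, a • x10 = z := ⟨_, rfl⟩
  have ea11 : a • x11 = x9 := by
    have h := ha x9
    rw [ea9, ea10] at h
    exact h
  have eb11 : b • x11 = x11 := by
    have h := hab x9
    rw [eb9, ea10] at h
    have hq : a • x11 = x9 := by rw [ea11]
    simpa only [smul_left_cancel_iff] using h.trans hq.symm
  refine ⟨[x0, x1, x2, x3, x4, x5, x6, x7, x8, x9, x10, x11].toFinset, (List.toFinset_card_le _).trans (by simp), by simp, ?_, ?_⟩ <;>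
    · intro x hx
      simp only [List.mem_toFinset, List.mem_cons, List.not_mem_nil, or_false] at hx ⊢
      rcases hx with rfl | rfl | rfl | rfl | rfl | rfl | rfl | rfl | rfl | rfl | rfl | rfl <;> simp [ea0, ea1, ea2, ea3, ea4, ea5, ea6, ea7, ea8, ea9, ea10, ea11, eb0, eb1, eb2, eb3, eb4, eb5, eb6, eb7, eb8, eb9, eb10, eb11]

/-- A group with two generators satisfying the relations modulo a finite subgroup is bounded. -/
theorem finite_and_card_le {P : Type*} [Group P] (a b : P) (hgen : Subgroup.closure {a, b} = ⊤)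
    (H : Subgroup P) [Finite H] {m : ℕ} (hH : Nat.card H ≤ m) (hfix : b ∈ H)
    (ha : ∀ x : P ⧸ H, a • a • a • x = x) (hb : ∀ x : P ⧸ H, b • b • b • b • b • x = x)
    (hab : ∀ x : P ⧸ H, a • b • a • b • x = x) : Finite P ∧ Nat.card P ≤ 12 * m := by
  classical
  obtain ⟨S, hS, h0, hSa, hSb⟩ := exists_closed a b ((1 : P) : P ⧸ H) (by
    show ((b * 1 : P) : P ⧸ H) = ((1 : P) : P ⧸ H)
    rw [mul_one, QuotientGroup.eq, mul_one]
    exact inv_mem hfix) ha hb hab
  have hmem : ∀ g : P, (∀ x ∈ S, g • x ∈ S) → g ∈ MulAction.stabilizer P (S : Set (P ⧸ H)) := fun g hg => by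
    rw [MulAction.mem_stabilizer_iff]
    refine Set.eq_of_subset_of_ncard_le ?_ (by rw [Set.ncard_smul_set]) S.finite_toSet
    rintro _ ⟨x, hx, rfl⟩
    exact hg x hx
  have htop : MulAction.stabilizer P (S : Set (P ⧸ H)) = ⊤ := by
    rw [eq_top_iff, ← hgen, Subgroup.closure_le]
    rintro g (rfl | rfl)
    exacts [hmem _ hSa, hmem _ hSb]
  have huniv : ∀ x : P ⧸ H, x ∈ S := by
    intro x
    induction x using QuotientGroup.induction_on with
    | _ g =>
      have hg : g • (S : Set (P ⧸ H)) = S := MulAction.mem_stabilizer_iff.mp (htop.ge (Subgroup.mem_top g))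
      have : g • ((1 : P) : P ⧸ H) ∈ (S : Set (P ⧸ H)) := hg ▸ Set.smul_mem_smul_set h0
      simpa using this
  haveI : Finite (P ⧸ H) := Finite.of_injective (fun x => (⟨x, huniv x⟩ : S)) fun x y e => congrArg Subtype.val e
  have hc : Nat.card (P ⧸ H) ≤ 12 := by
    refine (Nat.card_le_card_of_injective (fun x => (⟨x, huniv x⟩ : S)) fun x y e => congrArg Subtype.val e).trans ?_
    rwa [Nat.card_eq_fintype_card, Fintype.card_coe]
  have e := Subgroup.groupEquivQuotientProdSubgroup (s := H)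
  refine ⟨Finite.of_equiv _ e.symm, ?_⟩
  rw [Nat.card_congr e, Nat.card_prod]
  exact Nat.mul_le_mul hc hH

end Cfsg.Lib.Presentations
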